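import Cfsg.Agent.Spor.He49980.D0

set_option autoImplicit false
set_option maxRecDepth 100000000
set_option Elab.async false

namespace Cfsg.Agent.Spor.He49980

theorem ok0 : Net.okb 16 n0 = true := by decide +kernel

theorem ok1 : Net.okb 16 n1 = true := by decide +kernel

theorem ok2 : Net.okb 16 n2 = true := by decide +kernel

theorem ok3 : Net.okb 16 n3 = true := by decide +kernel

theorem ok4 : Net.okb 16 n4 = true := by decide +kernel

theorem ok5 : Net.okb 16 n5 = true := by decide +kernel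

theorem ok6 : Net.okb 16 n6 = true := by decide +kernel

theorem ok7 : Net.okb 16 n7 = true := by decide +kernel

theorem rel0 : T.rel 16 [1, 1] 0 16 = true := by decide +kernel

theorem rel1 : T.rel 16 [2, 2] 0 16 = true := by decide +kernel

theorem rel2 : T.rel 16 [3, 3] 0 16 = true := by decide +kernel

theorem rel3 : T.rel 16 [4, 4] 0 16 = true := by decide +kernel

theorem rel4 : T.rel 16 [5, 5] 0 16 = true := by decide +kernel

theorem rel5 : T.rel 16 [6, 6] 0 16 = true := by decide +kernel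

theorem rel6 : T.rel 16 [7, 7] 0 16 = true := by decide +kernel

theorem rel7 : T.rel 16 [8, 3, 4, 3] 0 16 = true := by decide +kernel

theorem rel8 : T.rel 16 [2, 1, 2, 1, 2, 1, 2, 1] 0 16 = true := by decide +kernel

theorem rel9 : T.rel 16 [3, 1, 3, 1] 0 16 = true := by decide +kernel

theorem rel10 : T.rel 16 [4, 1, 4, 1] 0 16 = true := by decide +kernel

theorem rel11 : T.rel 16 [5, 1, 5, 1] 0 16 = true := by decide +kernel

theorem rel12 : T.rel 16 [6, 1, 6, 1] 0 16 = true := by decide +kernel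

theorem rel13 : T.rel 16 [7, 1, 7, 1] 0 16 = true := by decide +kernel

theorem rel14 : T.rel 16 [3, 2, 3, 2, 3, 2] 0 16 = true := by decide +kernel

theorem rel15 : T.rel 16 [4, 2, 4, 2] 0 16 = true := by decide +kernel

theorem rel16 : T.rel 16 [5, 2, 5, 2] 0 16 = true := by decide +kernel

theorem rel17 : T.rel 16 [6, 2, 6, 2] 0 16 = true := by decide +kernel

theorem rel18 : T.rel 16 [7, 2, 7, 2] 0 16 = true := by decide +kernel

theorem rel19 : T.rel 16 [4, 3, 4, 3, 4, 3, 4, 3, 4, 3, 4, 3, 4, 3, 4, 3, 4, 3, 4, 3] 0 16 = true := by decide +kernel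

theorem rel20 : T.rel 16 [5, 3, 5, 3] 0 16 = true := by decide +kernel

theorem rel21 : T.rel 16 [6, 3, 6, 3] 0 16 = true := by decide +kernel

theorem rel22 : T.rel 16 [7, 3, 7, 3] 0 16 = true := by decide +kernel

theorem rel23 : T.rel 16 [5, 4, 5, 4, 5, 4] 0 16 = true := by decide +kernel

theorem rel24 : T.rel 16 [6, 4, 6, 4, 6, 4] 0 16 = true := by decide +kernel

theorem rel25 : T.rel 16 [7, 4, 7, 4, 7, 4] 0 16 = true := by decide +kernel

theorem rel26 : T.rel 16 [6, 5, 6, 5] 0 16 = true := by decide +kernel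

theorem rel27 : T.rel 16 [7, 5, 7, 5] 0 16 = true := by decide +kernel

theorem rel28 : T.rel 16 [7, 6, 7, 6, 7, 6, 7, 6] 0 16 = true := by decide +kernel

theorem rel29 : T.rel 16 [6, 7, 6, 7, 5] 0 16 = true := by decide +kernel

theorem rel30 : T.rel 16 [1, 2, 3, 1, 2, 3, 1, 2, 3, 5] 0 16 = true := by decide +kernel

theorem rel31 : T.rel 16 [3, 4, 3, 4, 3, 4, 3, 4, 3, 4, 1] 0 16 = true := by decide +kernel

theorem rel32 : T.rel 16 [7, 6, 4, 3, 7, 6, 4, 3, 7, 6, 4, 3, 7, 6, 4, 3] 0 16 = true := by decide +kernel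

theorem hcov : T.treeCov (ones 49980) L 1 = true := by decide +kernel

theorem hg : lall (fun z => band (memL L z) (band (sub (ones 49980) (T.let z).cl) (T.closed (ones 49980) z))) gs = true := by decide +kernel

theorem hivk : ivOk (2 * 7) EX IV = true := by decide +kernel

theorem hrt : RT.ok (2 * 7) EX RL = true := by decide +kernel

theorem hdefs : defs F 11 = true := by decide +kernel

noncomputable def st0_l : List Nat := [nat_lit 0x3ff, nat_lit 0x3ff, nat_lit 0x3ff, nat_lit 0xb80000403, nat_lit 0xc80000403, nat_lit 0x80000100001403, nat_lit 0x20000e80000c03, nat_lit 0x20000f80000c03, nat_lit 0x60001180001c03, nat_lit 0x120000700002803, nat_lit 0x290000d8000a003, nat_lit 0x290000b8000a000056000290000b8000a000056000290000b80002c0b, nat_lit 0x130001680002803, nat_lit 0x1700003802, nat_lit 0x840000800000000058000c000002000030001280002409, nat_lit 0x1800012000320000400001c05, nat_lit 0x130000d00004c00034000130000d00004c00034000130000d00a,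 nat_lit 0x200000c0000500000400006000070001b00001808, nat_lit 0x110001c80000803, nat_lit 0xd0001d80000003, nat_lit 0x58000f402, nat_lit 0x140001f80005403, nat_lit 0x140000d80005403, nat_lit 0x40000210000500002c00015000210000500002c00015000210000500b, nat_lit 0xa80011402]
theorem st0 : band (steps F IV RT base st0_l 11) (Nat.beq (Nat.add 11 (llen st0_l)) 36) = true := by decide +kernel

theorem rot1_1 : T.rot 1 [1] (sel (ones 49980) ip1 1) = true := by decide +kernel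

theorem rot1_1r : band (Rule.ok (2 * 7) EX RL ⟨1 :: [1], [], 25, false⟩) (lall (memL L) [1]) = true := by decide +kernel

theorem rot1_2 : T.rot 1 [3, 1, 3] (sel (ones 49980) ip1 2) = true := by decide +kernel

theorem rot1_2r : band (Rule.ok (2 * 7) EX RL ⟨1 :: [3, 1, 3], [], 1, false⟩) (lall (memL L) [3, 1, 3]) = true := by decide +kernel

theorem rot1_3 : T.rot 1 [4, 1, 4] (sel (ones 49980) ip1 3) = true := by decide +kernel

theorem rot1_3r : band (Rule.ok (2 * 7) EX RL ⟨1 :: [4, 1, 4], [], 2, false⟩) (lall (memL L) [4, 1, 4]) = true := by decide +kernel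

theorem rot1_4 : T.rot 1 [5, 1, 5] (sel (ones 49980) ip1 4) = true := by decide +kernel

theorem rot1_4r : band (Rule.ok (2 * 7) EX RL ⟨1 :: [5, 1, 5], [], 3, false⟩) (lall (memL L) [5, 1, 5]) = true := by decide +kernel

theorem rot1_5 : T.rot 1 [6, 1, 6] (sel (ones 49980) ip1 5) = true := by decide +kernel

theorem rot1_5r : band (Rule.ok (2 * 7) EX RL ⟨1 :: [6, 1, 6], [], 4, false⟩) (lall (memL L) [6, 1, 6]) = true := by decide +kernel

theorem rot1_6 : T.rot 1 [7, 1, 7] (sel (ones 49980) ip1 6) = true := by decide +kernel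

theorem rot1_6r : band (Rule.ok (2 * 7) EX RL ⟨1 :: [7, 1, 7], [], 5, false⟩) (lall (memL L) [7, 1, 7]) = true := by decide +kernel

theorem rot1_7 : T.rot 1 [2, 1, 2, 1, 2, 1, 2] (sel (ones 49980) ip1 7) = true := by decide +kernel

theorem rot1_7r : band (Rule.ok (2 * 7) EX RL ⟨1 :: [2, 1, 2, 1, 2, 1, 2], [], 0, false⟩) (lall (memL L) [2, 1, 2, 1, 2, 1, 2]) = true := by decide +kernel

theorem rot1_8 : T.rot 1 [2, 3, 1, 2, 3, 1, 2, 3, 5] (sel (ones 49980) ip1 8) = true := by decide +kernel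

theorem rot1_8r : band (Rule.ok (2 * 7) EX RL ⟨1 :: [2, 3, 1, 2, 3, 1, 2, 3, 5], [], 22, true⟩) (lall (memL L) [2, 3, 1, 2, 3, 1, 2, 3, 5]) = true := by decide +kernel

theorem rot1_9 : T.rot 1 [2, 3, 1, 2, 3, 5, 1, 2, 3] (sel (ones 49980) ip1 9) = true := by decide +kernel

theorem rot1_9r : band (Rule.ok (2 * 7) EX RL ⟨1 :: [2, 3, 1, 2, 3, 5, 1, 2, 3], [0, 2, 4], 22, true⟩) (lall (memL L) [2, 3, 1, 2, 3, 5, 1, 2, 3]) = true := by decide +kernel

theorem rot1_10 : T.rot 1 [2, 3, 5, 1, 2, 3, 1, 2, 3] (sel (ones 49980) ip1 10) = true := by decide +kernel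

theorem rot1_10r : band (Rule.ok (2 * 7) EX RL ⟨1 :: [2, 3, 5, 1, 2, 3, 1, 2, 3], [8, 4, 2, 0], 22, true⟩) (lall (memL L) [2, 3, 5, 1, 2, 3, 1, 2, 3]) = true := by decide +kernel

theorem rot1_11 : T.rot 1 [3, 2, 1, 3, 2, 1, 5, 3, 2] (sel (ones 49980) ip1 11) = true := by decide +kernel

theorem rot1_11r : band (Rule.ok (2 * 7) EX RL ⟨1 :: [3, 2, 1, 3, 2, 1, 5, 3, 2], [8, 4, 2], 22, false⟩) (lall (memL L) [3, 2, 1, 3, 2, 1, 5, 3, 2]) = true := by decide +kernel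

theorem rot1_12 : T.rot 1 [3, 2, 1, 5, 3, 2, 1, 3, 2] (sel (ones 49980) ip1 12) = true := by decide +kernel

theorem rot1_12r : band (Rule.ok (2 * 7) EX RL ⟨1 :: [3, 2, 1, 5, 3, 2, 1, 3, 2], [0, 2, 4, 0], 22, false⟩) (lall (memL L) [3, 2, 1, 5, 3, 2, 1, 3, 2]) = true := by decide +kernel

theorem rot1_13 : T.rot 1 [5, 3, 2, 1, 3, 2, 1, 3, 2] (sel (ones 49980) ip1 13) = true := by decide +kernel

theorem rot1_13r : band (Rule.ok (2 * 7) EX RL ⟨1 :: [5, 3, 2, 1, 3, 2, 1, 3, 2], [0], 22, false⟩) (lall (memL L) [5, 3, 2, 1, 3, 2, 1, 3, 2]) = true := by decide +kernel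

theorem rot1_14 : T.rot 1 [3, 4, 3, 4, 3, 4, 3, 4, 3, 4] (sel (ones 49980) ip1 14) = true := by decide +kernel

theorem rot1_14r : band (Rule.ok (2 * 7) EX RL ⟨1 :: [3, 4, 3, 4, 3, 4, 3, 4, 3, 4], [0], 23, true⟩) (lall (memL L) [3, 4, 3, 4, 3, 4, 3, 4, 3, 4]) = true := by decide +kernel

theorem rot1_15 : T.rot 1 [4, 3, 4, 3, 4, 3, 4, 3, 4, 3] (sel (ones 49980) ip1 15) = true := by decide +kernel

theorem rot1_15r : band (Rule.ok (2 * 7) EX RL ⟨1 :: [4, 3, 4, 3, 4, 3, 4, 3, 4, 3], [], 23, false⟩) (lall (memL L) [4, 3, 4, 3, 4, 3, 4, 3, 4, 3]) = true := by decide +kernel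

theorem ep0a : T.treePath [] (Nat.shiftLeft 1 0) 1 = true := by decide +kernel

theorem ep0b : T.treePath [] (Nat.shiftLeft 1 0) 1 = true := by decide +kernel

theorem ep0c : band (lall (fun z => Nat.ble z 255) ([] ++ 1 :: [])) (concl F IV 36 0xf801 (encA ([] ++ 1 :: []) 0)) = true := by decide +kernel

theorem ep0d : band (Rule.ok (2 * 7) EX [] ⟨lapp [] [], [], 0, false⟩) (band (lall (memL L) []) (lall (memL L) [])) = true := by decide +kernel

theorem cov1 : T.cover 1 [(sel (ones 49980) ip1 1), (sel (ones 49980) ip1 2), (sel (ones 49980) ip1 3), (sel (ones 49980) ip1 4), (sel (ones 49980) ip1 5), (sel (ones 49980) ip1 6), (sel (ones 49980) ip1 7), (sel (ones 49980) ip1 8), (sel (ones 49980) ip1 9), (sel (ones 49980) ip1 10), (sel (ones 49980) ip1 11), (sel (ones 49980) ip1 12), (sel (ones 49980) ip1 13), (sel (ones 49980) ip1 14), (sel (ones 49980) ip1 15), (Nat.shiftLeft 1 0)] = true := by decide +kernel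

theorem tl1 : T.treeLt 16 1 = true := by decide +kernel

theorem rot2_1 : T.rot 2 [2] (sel (ones 49980) ip2 1) = true := by decide +kernel

theorem rot2_1r : band (Rule.ok (2 * 7) EX RL ⟨2 :: [2], [], 25, false⟩) (lall (memL L) [2]) = true := by decide +kernel

theorem rot2_2 : T.rot 2 [4, 2, 4] (sel (ones 49980) ip2 2) = true := by decide +kernel

theorem rot2_2r : band (Rule.ok (2 * 7) EX RL ⟨2 :: [4, 2, 4], [], 7, false⟩) (lall (memL L) [4, 2, 4]) = true := by decide +kernel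

theorem rot2_3 : T.rot 2 [5, 2, 5] (sel (ones 49980) ip2 3) = true := by decide +kernel

theorem rot2_3r : band (Rule.ok (2 * 7) EX RL ⟨2 :: [5, 2, 5], [], 8, false⟩) (lall (memL L) [5, 2, 5]) = true := by decide +kernel

theorem rot2_4 : T.rot 2 [6, 2, 6] (sel (ones 49980) ip2 4) = true := by decide +kernel

theorem rot2_4r : band (Rule.ok (2 * 7) EX RL ⟨2 :: [6, 2, 6], [], 9, false⟩) (lall (memL L) [6, 2, 6]) = true := by decide +kernel

theorem rot2_5 : T.rot 2 [7, 2, 7] (sel (ones 49980) ip2 5) = true := by decide +kernel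

theorem rot2_5r : band (Rule.ok (2 * 7) EX RL ⟨2 :: [7, 2, 7], [], 10, false⟩) (lall (memL L) [7, 2, 7]) = true := by decide +kernel

theorem rot2_6 : T.rot 2 [3, 2, 3, 2, 3] (sel (ones 49980) ip2 6) = true := by decide +kernel

theorem rot2_6r : band (Rule.ok (2 * 7) EX RL ⟨2 :: [3, 2, 3, 2, 3], [], 6, false⟩) (lall (memL L) [3, 2, 3, 2, 3]) = true := by decide +kernel

theorem rot2_7 : T.rot 2 [1, 2, 1, 2, 1, 2, 1] (sel (ones 49980) ip2 7) = true := by decide +kernel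

theorem rot2_7r : band (Rule.ok (2 * 7) EX RL ⟨2 :: [1, 2, 1, 2, 1, 2, 1], [], 0, true⟩) (lall (memL L) [1, 2, 1, 2, 1, 2, 1]) = true := by decide +kernel

theorem rot2_8 : T.rot 2 [3, 1, 2, 3, 1, 2, 3, 5, 1] (sel (ones 49980) ip2 8) = true := by decide +kernel

theorem rot2_8r : band (Rule.ok (2 * 7) EX RL ⟨2 :: [3, 1, 2, 3, 1, 2, 3, 5, 1], [0], 22, true⟩) (lall (memL L) [3, 1, 2, 3, 1, 2, 3, 5, 1]) = true := by decide +kernel

theorem rot2_9 : T.rot 2 [3, 1, 2, 3, 5, 1, 2, 3, 1] (sel (ones 49980) ip2 9) = true := by decide +kernel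

theorem rot2_9r : band (Rule.ok (2 * 7) EX RL ⟨2 :: [3, 1, 2, 3, 5, 1, 2, 3, 1], [0, 2, 4, 0], 22, true⟩) (lall (memL L) [3, 1, 2, 3, 5, 1, 2, 3, 1]) = true := by decide +kernel

theorem rot2_10 : T.rot 2 [3, 5, 1, 2, 3, 1, 2, 3, 1] (sel (ones 49980) ip2 10) = true := by decide +kernel

theorem rot2_10r : band (Rule.ok (2 * 7) EX RL ⟨2 :: [3, 5, 1, 2, 3, 1, 2, 3, 1], [8, 4, 2], 22, true⟩) (lall (memL L) [3, 5, 1, 2, 3, 1, 2, 3, 1]) = true := by decide +kernel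

theorem rot2_11 : T.rot 2 [1, 3, 2, 1, 3, 2, 1, 5, 3] (sel (ones 49980) ip2 11) = true := by decide +kernel

theorem rot2_11r : band (Rule.ok (2 * 7) EX RL ⟨2 :: [1, 3, 2, 1, 3, 2, 1, 5, 3], [8, 4], 22, false⟩) (lall (memL L) [1, 3, 2, 1, 3, 2, 1, 5, 3]) = true := by decide +kernel

theorem rot2_12 : T.rot 2 [1, 3, 2, 1, 5, 3, 2, 1, 3] (sel (ones 49980) ip2 12) = true := by decide +kernel

theorem rot2_12r : band (Rule.ok (2 * 7) EX RL ⟨2 :: [1, 3, 2, 1, 5, 3, 2, 1, 3], [0, 2, 4, 0, 2], 22, false⟩) (lall (memL L) [1, 3, 2, 1, 5, 3, 2, 1, 3]) = true := by decide +kernel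

theorem rot2_13 : T.rot 2 [1, 5, 3, 2, 1, 3, 2, 1, 3] (sel (ones 49980) ip2 13) = true := by decide +kernel

theorem rot2_13r : band (Rule.ok (2 * 7) EX RL ⟨2 :: [1, 5, 3, 2, 1, 3, 2, 1, 3], [0, 2], 22, false⟩) (lall (memL L) [1, 5, 3, 2, 1, 3, 2, 1, 3]) = true := by decide +kernel

theorem cov2 : T.cover 2 [(sel (ones 49980) ip2 1), (sel (ones 49980) ip2 2), (sel (ones 49980) ip2 3), (sel (ones 49980) ip2 4), (sel (ones 49980) ip2 5), (sel (ones 49980) ip2 6), (sel (ones 49980) ip2 7), (sel (ones 49980) ip2 8), (sel (ones 49980) ip2 9), (sel (ones 49980) ip2 10), (sel (ones 49980) ip2 11), (sel (ones 49980) ip2 12), (sel (ones 49980) ip2 13)] = true := by decide +kernel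

theorem tl2 : T.treeLt 16 2 = true := by decide +kernel

theorem rot3_1 : T.rot 3 [3] (sel (ones 49980) ip3 1) = true := by decide +kernel

theorem rot3_1r : band (Rule.ok (2 * 7) EX RL ⟨3 :: [3], [], 25, false⟩) (lall (memL L) [3]) = true := by decide +kernel

theorem rot3_2 : T.rot 3 [1, 3, 1] (sel (ones 49980) ip3 2) = true := by decide +kernel

theorem rot3_2r : band (Rule.ok (2 * 7) EX RL ⟨3 :: [1, 3, 1], [], 1, true⟩) (lall (memL L) [1, 3, 1]) = true := by decide +kernel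

theorem rot3_3 : T.rot 3 [5, 3, 5] (sel (ones 49980) ip3 3) = true := by decide +kernel

theorem rot3_3r : band (Rule.ok (2 * 7) EX RL ⟨3 :: [5, 3, 5], [], 12, false⟩) (lall (memL L) [5, 3, 5]) = true := by decide +kernel

theorem rot3_4 : T.rot 3 [6, 3, 6] (sel (ones 49980) ip3 4) = true := by decide +kernel

theorem rot3_4r : band (Rule.ok (2 * 7) EX RL ⟨3 :: [6, 3, 6], [], 13, false⟩) (lall (memL L) [6, 3, 6]) = true := by decide +kernel

theorem rot3_5 : T.rot 3 [7, 3, 7] (sel (ones 49980) ip3 5) = true := by decide +kernel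

theorem rot3_5r : band (Rule.ok (2 * 7) EX RL ⟨3 :: [7, 3, 7], [], 14, false⟩) (lall (memL L) [7, 3, 7]) = true := by decide +kernel

theorem rot3_6 : T.rot 3 [2, 3, 2, 3, 2] (sel (ones 49980) ip3 6) = true := by decide +kernel

theorem rot3_6r : band (Rule.ok (2 * 7) EX RL ⟨3 :: [2, 3, 2, 3, 2], [], 6, true⟩) (lall (memL L) [2, 3, 2, 3, 2]) = true := by decide +kernel

theorem rot3_7 : T.rot 3 [1, 2, 3, 1, 2, 3, 5, 1, 2] (sel (ones 49980) ip3 7) = true := by decide +kernel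

theorem rot3_7r : band (Rule.ok (2 * 7) EX RL ⟨3 :: [1, 2, 3, 1, 2, 3, 5, 1, 2], [0, 2], 22, true⟩) (lall (memL L) [1, 2, 3, 1, 2, 3, 5, 1, 2]) = true := by decide +kernel

theorem rot3_8 : T.rot 3 [1, 2, 3, 5, 1, 2, 3, 1, 2] (sel (ones 49980) ip3 8) = true := by decide +kernel

theorem rot3_8r : band (Rule.ok (2 * 7) EX RL ⟨3 :: [1, 2, 3, 5, 1, 2, 3, 1, 2], [8, 4, 2, 0, 4], 22, true⟩) (lall (memL L) [1, 2, 3, 5, 1, 2, 3, 1, 2]) = true := by decide +kernel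

theorem rot3_9 : T.rot 3 [5, 1, 2, 3, 1, 2, 3, 1, 2] (sel (ones 49980) ip3 9) = true := by decide +kernel

theorem rot3_9r : band (Rule.ok (2 * 7) EX RL ⟨3 :: [5, 1, 2, 3, 1, 2, 3, 1, 2], [8, 4], 22, true⟩) (lall (memL L) [5, 1, 2, 3, 1, 2, 3, 1, 2]) = true := by decide +kernel

theorem rot3_10 : T.rot 3 [2, 1, 3, 2, 1, 3, 2, 1, 5] (sel (ones 49980) ip3 10) = true := by decide +kernel

theorem rot3_10r : band (Rule.ok (2 * 7) EX RL ⟨3 :: [2, 1, 3, 2, 1, 3, 2, 1, 5], [8], 22, false⟩) (lall (memL L) [2, 1, 3, 2, 1, 3, 2, 1, 5]) = true := by decide +kernel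

theorem rot3_11 : T.rot 3 [2, 1, 3, 2, 1, 5, 3, 2, 1] (sel (ones 49980) ip3 11) = true := by decide +kernel

theorem rot3_11r : band (Rule.ok (2 * 7) EX RL ⟨3 :: [2, 1, 3, 2, 1, 5, 3, 2, 1], [8, 4, 2, 0], 22, false⟩) (lall (memL L) [2, 1, 3, 2, 1, 5, 3, 2, 1]) = true := by decide +kernel

theorem rot3_12 : T.rot 3 [2, 1, 5, 3, 2, 1, 3, 2, 1] (sel (ones 49980) ip3 12) = true := by decide +kernel

theorem rot3_12r : band (Rule.ok (2 * 7) EX RL ⟨3 :: [2, 1, 5, 3, 2, 1, 3, 2, 1], [0, 2, 4], 22, false⟩) (lall (memL L) [2, 1, 5, 3, 2, 1, 3, 2, 1]) = true := by decide +kernel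

theorem rot3_13 : T.rot 3 [4, 3, 4, 3, 4, 3, 4, 3, 4, 1] (sel (ones 49980) ip3 13) = true := by decide +kernel

theorem rot3_13r : band (Rule.ok (2 * 7) EX RL ⟨3 :: [4, 3, 4, 3, 4, 3, 4, 3, 4, 1], [], 23, true⟩) (lall (memL L) [4, 3, 4, 3, 4, 3, 4, 3, 4, 1]) = true := by decide +kernel

theorem rot3_14 : T.rot 3 [4, 3, 4, 3, 4, 3, 4, 1, 3, 4] (sel (ones 49980) ip3 14) = true := by decide +kernel

theorem rot3_14r : band (Rule.ok (2 * 7) EX RL ⟨3 :: [4, 3, 4, 3, 4, 3, 4, 1, 3, 4], [4, 6], 23, true⟩) (lall (memL L) [4, 3, 4, 3, 4, 3, 4, 1, 3, 4]) = true := by decide +kernel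

theorem rot3_15 : T.rot 3 [4, 3, 4, 3, 4, 1, 3, 4, 3, 4] (sel (ones 49980) ip3 15) = true := by decide +kernel

theorem rot3_15r : band (Rule.ok (2 * 7) EX RL ⟨3 :: [4, 3, 4, 3, 4, 1, 3, 4, 3, 4], [4, 6, 4, 6], 23, true⟩) (lall (memL L) [4, 3, 4, 3, 4, 1, 3, 4, 3, 4]) = true := by decide +kernel

theorem rot3_16 : T.rot 3 [4, 3, 4, 1, 3, 4, 3, 4, 3, 4] (sel (ones 49980) ip3 16) = true := by decide +kernel

theorem rot3_16r : band (Rule.ok (2 * 7) EX RL ⟨3 :: [4, 3, 4, 1, 3, 4, 3, 4, 3, 4], [0, 6, 4, 6, 4], 23, true⟩) (lall (memL L) [4, 3, 4, 1, 3, 4, 3, 4, 3, 4]) = true := by decide +kernel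

theorem rot3_17 : T.rot 3 [4, 1, 3, 4, 3, 4, 3, 4, 3, 4] (sel (ones 49980) ip3 17) = true := by decide +kernel

theorem rot3_17r : band (Rule.ok (2 * 7) EX RL ⟨3 :: [4, 1, 3, 4, 3, 4, 3, 4, 3, 4], [0, 6, 4], 23, true⟩) (lall (memL L) [4, 1, 3, 4, 3, 4, 3, 4, 3, 4]) = true := by decide +kernel

theorem rot3_18 : T.rot 3 [4, 3, 4, 3, 4, 3, 4, 3, 1, 4] (sel (ones 49980) ip3 18) = true := by decide +kernel

theorem rot3_18r : band (Rule.ok (2 * 7) EX RL ⟨3 :: [4, 3, 4, 3, 4, 3, 4, 3, 1, 4], [0, 6], 23, false⟩) (lall (memL L) [4, 3, 4, 3, 4, 3, 4, 3, 1, 4]) = true := by decide +kernel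

theorem rot3_19 : T.rot 3 [4, 3, 4, 3, 4, 3, 1, 4, 3, 4] (sel (ones 49980) ip3 19) = true := by decide +kernel

theorem rot3_19r : band (Rule.ok (2 * 7) EX RL ⟨3 :: [4, 3, 4, 3, 4, 3, 1, 4, 3, 4], [0, 6, 4, 6], 23, false⟩) (lall (memL L) [4, 3, 4, 3, 4, 3, 1, 4, 3, 4]) = true := by decide +kernel

theorem rot3_20 : T.rot 3 [4, 3, 4, 3, 1, 4, 3, 4, 3, 4] (sel (ones 49980) ip3 20) = true := by decide +kernel

theorem rot3_20r : band (Rule.ok (2 * 7) EX RL ⟨3 :: [4, 3, 4, 3, 1, 4, 3, 4, 3, 4], [4, 6, 4, 6, 4], 23, false⟩) (lall (memL L) [4, 3, 4, 3, 1, 4, 3, 4, 3, 4]) = true := by decide +kernel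

theorem rot3_21 : T.rot 3 [4, 3, 1, 4, 3, 4, 3, 4, 3, 4] (sel (ones 49980) ip3 21) = true := by decide +kernel

theorem rot3_21r : band (Rule.ok (2 * 7) EX RL ⟨3 :: [4, 3, 1, 4, 3, 4, 3, 4, 3, 4], [4, 6, 4], 23, false⟩) (lall (memL L) [4, 3, 1, 4, 3, 4, 3, 4, 3, 4]) = true := by decide +kernel

theorem rot3_22 : T.rot 3 [1, 4, 3, 4, 3, 4, 3, 4, 3, 4] (sel (ones 49980) ip3 22) = true := by decide +kernel

theorem rot3_22r : band (Rule.ok (2 * 7) EX RL ⟨3 :: [1, 4, 3, 4, 3, 4, 3, 4, 3, 4], [4], 23, false⟩) (lall (memL L) [1, 4, 3, 4, 3, 4, 3, 4, 3, 4]) = true := by decide +kernel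

theorem rot3_23 : T.rot 3 [7, 6, 4, 3, 7, 6, 4, 3, 7, 6, 4, 3, 7, 6, 4] (sel (ones 49980) ip3 23) = true := by decide +kernel

theorem rot3_23r : band (Rule.ok (2 * 7) EX RL ⟨3 :: [7, 6, 4, 3, 7, 6, 4, 3, 7, 6, 4, 3, 7, 6, 4], [4], 24, true⟩) (lall (memL L) [7, 6, 4, 3, 7, 6, 4, 3, 7, 6, 4, 3, 7, 6, 4]) = true := by decide +kernel

theorem rot3_24 : T.rot 3 [4, 6, 7, 3, 4, 6, 7, 3, 4, 6, 7, 3, 4, 6, 7] (sel (ones 49980) ip3 24) = true := by decide +kernel

theorem rot3_24r : band (Rule.ok (2 * 7) EX RL ⟨3 :: [4, 6, 7, 3, 4, 6, 7, 3, 4, 6, 7, 3, 4, 6, 7], [], 24, false⟩) (lall (memL L) [4, 6, 7, 3, 4, 6, 7, 3, 4, 6, 7, 3, 4, 6, 7]) = true := by decide +kernel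

theorem rot3_25 : T.rot 3 [4, 3, 4, 3, 4, 3, 4, 3, 4, 3, 4, 3, 4, 3, 4, 3, 4, 3, 4] (sel (ones 49980) ip3 25) = true := by decide +kernel

theorem rot3_25r : band (Rule.ok (2 * 7) EX RL ⟨3 :: [4, 3, 4, 3, 4, 3, 4, 3, 4, 3, 4, 3, 4, 3, 4, 3, 4, 3, 4], [], 11, false⟩) (lall (memL L) [4, 3, 4, 3, 4, 3, 4, 3, 4, 3, 4, 3, 4, 3, 4, 3, 4, 3, 4]) = true := by decide +kernel

theorem ep1a : T.treePath [] (Nat.shiftLeft 1 0) 1 = true := by decide +kernel

theorem ep1b : T.treePath [] (Nat.shiftLeft 1 0) 1 = true := by decide +kernel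

theorem ep1c : band (lall (fun z => Nat.ble z 255) ([] ++ 3 :: [])) (concl F IV 36 0x11801 (encA ([] ++ 3 :: []) 0)) = true := by decide +kernel

theorem ep1d : band (Rule.ok (2 * 7) EX [] ⟨lapp [] [], [], 0, false⟩) (band (lall (memL L) []) (lall (memL L) [])) = true := by decide +kernel

theorem cov3 : T.cover 3 [(sel (ones 49980) ip3 1), (sel (ones 49980) ip3 2), (sel (ones 49980) ip3 3), (sel (ones 49980) ip3 4), (sel (ones 49980) ip3 5), (sel (ones 49980) ip3 6), (sel (ones 49980) ip3 7), (sel (ones 49980) ip3 8), (sel (ones 49980) ip3 9), (sel (ones 49980) ip3 10), (sel (ones 49980) ip3 11), (sel (ones 49980) ip3 12), (sel (ones 49980) ip3 13), (sel (ones 49980) ip3 14), (sel (ones 49980) ip3 15), (sel (ones 49980) ip3 16), (sel (ones 49980) ip3 17), (sel (ones 49980) ip3 18), (sel (ones 49980) ip3 19), (sel (ones 49980) ip3 20), (sel (ones 49980) ip3 21), (sel (ones 49980) ip3 22), (sel (ones 49980) ip3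 23), (sel (ones 49980) ip3 24), (sel (ones 49980) ip3 25), (Nat.shiftLeft 1 0)] = true := by decide +kernel

theorem tl3 : T.treeLt 16 3 = true := by decide +kernel

theorem rot4_1 : T.rot 4 [4] (sel (ones 49980) ip4 1) = true := by decide +kernel

theorem rot4_1r : band (Rule.ok (2 * 7) EX RL ⟨4 :: [4], [], 25, false⟩) (lall (memL L) [4]) = true := by decide +kernel

theorem rot4_2 : T.rot 4 [1, 4, 1] (sel (ones 49980) ip4 2) = true := by decide +kernel

theorem rot4_2r : band (Rule.ok (2 * 7) EX RL ⟨4 :: [1, 4, 1], [], 2, true⟩) (lall (memL L) [1, 4, 1]) = true := by decide +kernel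

theorem rot4_3 : T.rot 4 [2, 4, 2] (sel (ones 49980) ip4 3) = true := by decide +kernel

theorem rot4_3r : band (Rule.ok (2 * 7) EX RL ⟨4 :: [2, 4, 2], [], 7, true⟩) (lall (memL L) [2, 4, 2]) = true := by decide +kernel

theorem rot4_4 : T.rot 4 [5, 4, 5, 4, 5] (sel (ones 49980) ip4 4) = true := by decide +kernel

theorem rot4_4r : band (Rule.ok (2 * 7) EX RL ⟨4 :: [5, 4, 5, 4, 5], [], 15, false⟩) (lall (memL L) [5, 4, 5, 4, 5]) = true := by decide +kernel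

theorem rot4_5 : T.rot 4 [6, 4, 6, 4, 6] (sel (ones 49980) ip4 5) = true := by decide +kernel

theorem rot4_5r : band (Rule.ok (2 * 7) EX RL ⟨4 :: [6, 4, 6, 4, 6], [], 16, false⟩) (lall (memL L) [6, 4, 6, 4, 6]) = true := by decide +kernel

theorem rot4_6 : T.rot 4 [7, 4, 7, 4, 7] (sel (ones 49980) ip4 6) = true := by decide +kernel

theorem rot4_6r : band (Rule.ok (2 * 7) EX RL ⟨4 :: [7, 4, 7, 4, 7], [], 17, false⟩) (lall (memL L) [7, 4, 7, 4, 7]) = true := by decide +kernel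

theorem rot4_7 : T.rot 4 [3, 4, 3, 4, 3, 4, 3, 4, 1, 3] (sel (ones 49980) ip4 7) = true := by decide +kernel

theorem rot4_7r : band (Rule.ok (2 * 7) EX RL ⟨4 :: [3, 4, 3, 4, 3, 4, 3, 4, 1, 3], [4], 23, true⟩) (lall (memL L) [3, 4, 3, 4, 3, 4, 3, 4, 1, 3]) = true := by decide +kernel

theorem rot4_8 : T.rot 4 [3, 4, 3, 4, 3, 4, 1, 3, 4, 3] (sel (ones 49980) ip4 8) = true := by decide +kernel

theorem rot4_8r : band (Rule.ok (2 * 7) EX RL ⟨4 :: [3, 4, 3, 4, 3, 4, 1, 3, 4, 3], [4, 6, 4], 23, true⟩) (lall (memL L) [3, 4, 3, 4, 3, 4, 1, 3, 4, 3]) = true := by decide +kernel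

theorem rot4_9 : T.rot 4 [3, 4, 3, 4, 1, 3, 4, 3, 4, 3] (sel (ones 49980) ip4 9) = true := by decide +kernel

theorem rot4_9r : band (Rule.ok (2 * 7) EX RL ⟨4 :: [3, 4, 3, 4, 1, 3, 4, 3, 4, 3], [4, 6, 4, 6, 4], 23, true⟩) (lall (memL L) [3, 4, 3, 4, 1, 3, 4, 3, 4, 3]) = true := by decide +kernel

theorem rot4_10 : T.rot 4 [3, 4, 1, 3, 4, 3, 4, 3, 4, 3] (sel (ones 49980) ip4 10) = true := by decide +kernel

theorem rot4_10r : band (Rule.ok (2 * 7) EX RL ⟨4 :: [3, 4, 1, 3, 4, 3, 4, 3, 4, 3], [0, 6, 4, 6], 23, true⟩) (lall (memL L) [3, 4, 1, 3, 4, 3, 4, 3, 4, 3]) = true := by decide +kernel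

theorem rot4_11 : T.rot 4 [1, 3, 4, 3, 4, 3, 4, 3, 4, 3] (sel (ones 49980) ip4 11) = true := by decide +kernel

theorem rot4_11r : band (Rule.ok (2 * 7) EX RL ⟨4 :: [1, 3, 4, 3, 4, 3, 4, 3, 4, 3], [0, 6], 23, true⟩) (lall (memL L) [1, 3, 4, 3, 4, 3, 4, 3, 4, 3]) = true := by decide +kernel

theorem rot4_12 : T.rot 4 [3, 4, 3, 4, 3, 4, 3, 4, 3, 1] (sel (ones 49980) ip4 12) = true := by decide +kernel

theorem rot4_12r : band (Rule.ok (2 * 7) EX RL ⟨4 :: [3, 4, 3, 4, 3, 4, 3, 4, 3, 1], [0], 23, false⟩) (lall (memL L) [3, 4, 3, 4, 3, 4, 3, 4, 3, 1]) = true := by decide +kernel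

theorem rot4_13 : T.rot 4 [3, 4, 3, 4, 3, 4, 3, 1, 4, 3] (sel (ones 49980) ip4 13) = true := by decide +kernel

theorem rot4_13r : band (Rule.ok (2 * 7) EX RL ⟨4 :: [3, 4, 3, 4, 3, 4, 3, 1, 4, 3], [0, 6, 4], 23, false⟩) (lall (memL L) [3, 4, 3, 4, 3, 4, 3, 1, 4, 3]) = true := by decide +kernel

theorem rot4_14 : T.rot 4 [3, 4, 3, 4, 3, 1, 4, 3, 4, 3] (sel (ones 49980) ip4 14) = true := by decide +kernel

theorem rot4_14r : band (Rule.ok (2 * 7) EX RL ⟨4 :: [3, 4, 3, 4, 3, 1, 4, 3, 4, 3], [0, 6, 4, 6, 4], 23, false⟩) (lall (memL L) [3, 4, 3, 4, 3, 1, 4, 3, 4, 3]) = true := by decide +kernel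

theorem rot4_15 : T.rot 4 [3, 4, 3, 1, 4, 3, 4, 3, 4, 3] (sel (ones 49980) ip4 15) = true := by decide +kernel

theorem rot4_15r : band (Rule.ok (2 * 7) EX RL ⟨4 :: [3, 4, 3, 1, 4, 3, 4, 3, 4, 3], [4, 6, 4, 6], 23, false⟩) (lall (memL L) [3, 4, 3, 1, 4, 3, 4, 3, 4, 3]) = true := by decide +kernel

theorem rot4_16 : T.rot 4 [3, 1, 4, 3, 4, 3, 4, 3, 4, 3] (sel (ones 49980) ip4 16) = true := by decide +kernel

theorem rot4_16r : band (Rule.ok (2 * 7) EX RL ⟨4 :: [3, 1, 4, 3, 4, 3, 4, 3, 4, 3], [4, 6], 23, false⟩) (lall (memL L) [3, 1, 4, 3, 4, 3, 4, 3, 4, 3]) = true := by decide +kernel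

theorem rot4_17 : T.rot 4 [3, 7, 6, 4, 3, 7, 6, 4, 3, 7, 6, 4, 3, 7, 6] (sel (ones 49980) ip4 17) = true := by decide +kernel

theorem rot4_17r : band (Rule.ok (2 * 7) EX RL ⟨4 :: [3, 7, 6, 4, 3, 7, 6, 4, 3, 7, 6, 4, 3, 7, 6], [4, 6], 24, true⟩) (lall (memL L) [3, 7, 6, 4, 3, 7, 6, 4, 3, 7, 6, 4, 3, 7, 6]) = true := by decide +kernel

theorem rot4_18 : T.rot 4 [6, 7, 3, 4, 6, 7, 3, 4, 6, 7, 3, 4, 6, 7, 3] (sel (ones 49980) ip4 18) = true := by decide +kernel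

theorem rot4_18r : band (Rule.ok (2 * 7) EX RL ⟨4 :: [6, 7, 3, 4, 6, 7, 3, 4, 6, 7, 3, 4, 6, 7, 3], [4], 24, false⟩) (lall (memL L) [6, 7, 3, 4, 6, 7, 3, 4, 6, 7, 3, 4, 6, 7, 3]) = true := by decide +kernel

theorem rot4_19 : T.rot 4 [3, 4, 3, 4, 3, 4, 3, 4, 3, 4, 3, 4, 3, 4, 3, 4, 3, 4, 3] (sel (ones 49980) ip4 19) = true := by decide +kernel

theorem rot4_19r : band (Rule.ok (2 * 7) EX RL ⟨4 :: [3, 4, 3, 4, 3, 4, 3, 4, 3, 4, 3, 4, 3, 4, 3, 4, 3, 4, 3], [], 11, true⟩) (lall (memL L) [3, 4, 3, 4, 3, 4, 3, 4, 3, 4, 3, 4, 3, 4, 3, 4, 3, 4, 3]) = true := by decide +kernel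

theorem cov4 : T.cover 4 [(sel (ones 49980) ip4 1), (sel (ones 49980) ip4 2), (sel (ones 49980) ip4 3), (sel (ones 49980) ip4 4), (sel (ones 49980) ip4 5), (sel (ones 49980) ip4 6), (sel (ones 49980) ip4 7), (sel (ones 49980) ip4 8), (sel (ones 49980) ip4 9), (sel (ones 49980) ip4 10), (sel (ones 49980) ip4 11), (sel (ones 49980) ip4 12), (sel (ones 49980) ip4 13), (sel (ones 49980) ip4 14), (sel (ones 49980) ip4 15), (sel (ones 49980) ip4 16), (sel (ones 49980) ip4 17), (sel (ones 49980) ip4 18), (sel (ones 49980) ip4 19), 1] = true := by decide +kernel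

theorem tl4 : T.treeLt 16 4 = true := by decide +kernel

theorem rot5_1 : T.rot 5 [5] (sel (ones 49980) ip5 1) = true := by decide +kernel

theorem rot5_1r : band (Rule.ok (2 * 7) EX RL ⟨5 :: [5], [], 25, false⟩) (lall (memL L) [5]) = true := by decide +kernel

theorem rot5_2 : T.rot 5 [1, 5, 1] (sel (ones 49980) ip5 2) = true := by decide +kernel

theorem rot5_2r : band (Rule.ok (2 * 7) EX RL ⟨5 :: [1, 5, 1], [], 3, true⟩) (lall (memL L) [1, 5, 1]) = true := by decide +kernel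

theorem rot5_3 : T.rot 5 [2, 5, 2] (sel (ones 49980) ip5 3) = true := by decide +kernel

theorem rot5_3r : band (Rule.ok (2 * 7) EX RL ⟨5 :: [2, 5, 2], [], 8, true⟩) (lall (memL L) [2, 5, 2]) = true := by decide +kernel

theorem rot5_4 : T.rot 5 [3, 5, 3] (sel (ones 49980) ip5 4) = true := by decide +kernel

theorem rot5_4r : band (Rule.ok (2 * 7) EX RL ⟨5 :: [3, 5, 3], [], 12, true⟩) (lall (memL L) [3, 5, 3]) = true := by decide +kernel

theorem rot5_5 : T.rot 5 [6, 5, 6] (sel (ones 49980) ip5 5) = true := by decide +kernel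

theorem rot5_5r : band (Rule.ok (2 * 7) EX RL ⟨5 :: [6, 5, 6], [], 18, false⟩) (lall (memL L) [6, 5, 6]) = true := by decide +kernel

theorem rot5_6 : T.rot 5 [7, 5, 7] (sel (ones 49980) ip5 6) = true := by decide +kernel

theorem rot5_6r : band (Rule.ok (2 * 7) EX RL ⟨5 :: [7, 5, 7], [], 19, false⟩) (lall (memL L) [7, 5, 7]) = true := by decide +kernel

theorem rot5_7 : T.rot 5 [6, 7, 6, 7] (sel (ones 49980) ip5 7) = true := by decide +kernel

theorem rot5_7r : band (Rule.ok (2 * 7) EX RL ⟨5 :: [6, 7, 6, 7], [8], 21, true⟩) (lall (memL L) [6, 7, 6, 7]) = true := by decide +kernel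

theorem rot5_8 : T.rot 5 [7, 6, 7, 6] (sel (ones 49980) ip5 8) = true := by decide +kernel

theorem rot5_8r : band (Rule.ok (2 * 7) EX RL ⟨5 :: [7, 6, 7, 6], [], 21, false⟩) (lall (memL L) [7, 6, 7, 6]) = true := by decide +kernel

theorem rot5_9 : T.rot 5 [4, 5, 4, 5, 4] (sel (ones 49980) ip5 9) = true := by decide +kernel

theorem rot5_9r : band (Rule.ok (2 * 7) EX RL ⟨5 :: [4, 5, 4, 5, 4], [], 15, true⟩) (lall (memL L) [4, 5, 4, 5, 4]) = true := by decide +kernel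

theorem rot5_10 : T.rot 5 [1, 2, 3, 1, 2, 3, 1, 2, 3] (sel (ones 49980) ip5 10) = true := by decide +kernel

theorem rot5_10r : band (Rule.ok (2 * 7) EX RL ⟨5 :: [1, 2, 3, 1, 2, 3, 1, 2, 3], [8], 22, true⟩) (lall (memL L) [1, 2, 3, 1, 2, 3, 1, 2, 3]) = true := by decide +kernel

theorem rot5_11 : T.rot 5 [3, 2, 1, 3, 2, 1, 3, 2, 1] (sel (ones 49980) ip5 11) = true := by decide +kernel

theorem rot5_11r : band (Rule.ok (2 * 7) EX RL ⟨5 :: [3, 2, 1, 3, 2, 1, 3, 2, 1], [], 22, false⟩) (lall (memL L) [3, 2, 1, 3, 2, 1, 3, 2, 1]) = true := by decide +kernel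

theorem cov5 : T.cover 5 [(sel (ones 49980) ip5 1), (sel (ones 49980) ip5 2), (sel (ones 49980) ip5 3), (sel (ones 49980) ip5 4), (sel (ones 49980) ip5 5), (sel (ones 49980) ip5 6), (sel (ones 49980) ip5 7), (sel (ones 49980) ip5 8), (sel (ones 49980) ip5 9), (sel (ones 49980) ip5 10), (sel (ones 49980) ip5 11), 1] = true := by decide +kernel

theorem tl5 : T.treeLt 16 5 = true := by decide +kernel

theorem rot6_1 : T.rot 6 [6] (sel (ones 49980) ip6 1) = true := by decide +kernel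

theorem rot6_1r : band (Rule.ok (2 * 7) EX RL ⟨6 :: [6], [], 25, false⟩) (lall (memL L) [6]) = true := by decide +kernel

theorem rot6_2 : T.rot 6 [1, 6, 1] (sel (ones 49980) ip6 2) = true := by decide +kernel

theorem rot6_2r : band (Rule.ok (2 * 7) EX RL ⟨6 :: [1, 6, 1], [], 4, true⟩) (lall (memL L) [1, 6, 1]) = true := by decide +kernel

theorem rot6_3 : T.rot 6 [2, 6, 2] (sel (ones 49980) ip6 3) = true := by decide +kernel

theorem rot6_3r : band (Rule.ok (2 * 7) EX RL ⟨6 :: [2, 6, 2], [], 9, true⟩) (lall (memL L) [2, 6, 2]) = true := by decide +kernel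

theorem rot6_4 : T.rot 6 [3, 6, 3] (sel (ones 49980) ip6 4) = true := by decide +kernel

theorem rot6_4r : band (Rule.ok (2 * 7) EX RL ⟨6 :: [3, 6, 3], [], 13, true⟩) (lall (memL L) [3, 6, 3]) = true := by decide +kernel

theorem rot6_5 : T.rot 6 [5, 6, 5] (sel (ones 49980) ip6 5) = true := by decide +kernel

theorem rot6_5r : band (Rule.ok (2 * 7) EX RL ⟨6 :: [5, 6, 5], [], 18, true⟩) (lall (memL L) [5, 6, 5]) = true := by decide +kernel

theorem rot6_6 : T.rot 6 [7, 6, 7, 5] (sel (ones 49980) ip6 6) = true := by decide +kernel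

theorem rot6_6r : band (Rule.ok (2 * 7) EX RL ⟨6 :: [7, 6, 7, 5], [], 21, true⟩) (lall (memL L) [7, 6, 7, 5]) = true := by decide +kernel

theorem rot6_7 : T.rot 6 [7, 5, 6, 7] (sel (ones 49980) ip6 7) = true := by decide +kernel

theorem rot6_7r : band (Rule.ok (2 * 7) EX RL ⟨6 :: [7, 5, 6, 7], [10, 12], 21, true⟩) (lall (memL L) [7, 5, 6, 7]) = true := by decide +kernel

theorem rot6_8 : T.rot 6 [7, 6, 5, 7] (sel (ones 49980) ip6 8) = true := by decide +kernel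

theorem rot6_8r : band (Rule.ok (2 * 7) EX RL ⟨6 :: [7, 6, 5, 7], [8, 12], 21, false⟩) (lall (memL L) [7, 6, 5, 7]) = true := by decide +kernel

theorem rot6_9 : T.rot 6 [5, 7, 6, 7] (sel (ones 49980) ip6 9) = true := by decide +kernel

theorem rot6_9r : band (Rule.ok (2 * 7) EX RL ⟨6 :: [5, 7, 6, 7], [10], 21, false⟩) (lall (memL L) [5, 7, 6, 7]) = true := by decide +kernel

theorem rot6_10 : T.rot 6 [4, 6, 4, 6, 4] (sel (ones 49980) ip6 10) = true := by decide +kernel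

theorem rot6_10r : band (Rule.ok (2 * 7) EX RL ⟨6 :: [4, 6, 4, 6, 4], [], 16, true⟩) (lall (memL L) [4, 6, 4, 6, 4]) = true := by decide +kernel

theorem rot6_11 : T.rot 6 [7, 6, 7, 6, 7, 6, 7] (sel (ones 49980) ip6 11) = true := by decide +kernel

theorem rot6_11r : band (Rule.ok (2 * 7) EX RL ⟨6 :: [7, 6, 7, 6, 7, 6, 7], [], 20, false⟩) (lall (memL L) [7, 6, 7, 6, 7, 6, 7]) = true := by decide +kernel

theorem rot6_12 : T.rot 6 [4, 3, 7, 6, 4, 3, 7, 6, 4, 3, 7, 6, 4, 3, 7] (sel (ones 49980) ip6 12) = true := by decide +kernel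

theorem rot6_12r : band (Rule.ok (2 * 7) EX RL ⟨6 :: [4, 3, 7, 6, 4, 3, 7, 6, 4, 3, 7, 6, 4, 3, 7], [12], 24, true⟩) (lall (memL L) [4, 3, 7, 6, 4, 3, 7, 6, 4, 3, 7, 6, 4, 3, 7]) = true := by decide +kernel

theorem rot6_13 : T.rot 6 [7, 3, 4, 6, 7, 3, 4, 6, 7, 3, 4, 6, 7, 3, 4] (sel (ones 49980) ip6 13) = true := by decide +kernel

theorem rot6_13r : band (Rule.ok (2 * 7) EX RL ⟨6 :: [7, 3, 4, 6, 7, 3, 4, 6, 7, 3, 4, 6, 7, 3, 4], [12, 10], 24, false⟩) (lall (memL L) [7, 3, 4, 6, 7, 3, 4, 6, 7, 3, 4, 6, 7, 3, 4]) = true := by decide +kernel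

theorem cov6 : T.cover 6 [(sel (ones 49980) ip6 1), (sel (ones 49980) ip6 2), (sel (ones 49980) ip6 3), (sel (ones 49980) ip6 4), (sel (ones 49980) ip6 5), (sel (ones 49980) ip6 6), (sel (ones 49980) ip6 7), (sel (ones 49980) ip6 8), (sel (ones 49980) ip6 9), (sel (ones 49980) ip6 10), (sel (ones 49980) ip6 11), (sel (ones 49980) ip6 12), (sel (ones 49980) ip6 13), 1] = true := by decide +kernel

theorem tl6 : T.treeLt 16 6 = true := by decide +kernel

theorem rot7_1 : T.rot 7 [7] (sel (ones 49980) ip7 1) = true := by decide +kernel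

theorem rot7_1r : band (Rule.ok (2 * 7) EX RL ⟨7 :: [7], [], 25, false⟩) (lall (memL L) [7]) = true := by decide +kernel

theorem rot7_2 : T.rot 7 [1, 7, 1] (sel (ones 49980) ip7 2) = true := by decide +kernel

theorem rot7_2r : band (Rule.ok (2 * 7) EX RL ⟨7 :: [1, 7, 1], [], 5, true⟩) (lall (memL L) [1, 7, 1]) = true := by decide +kernel

theorem rot7_3 : T.rot 7 [2, 7, 2] (sel (ones 49980) ip7 3) = true := by decide +kernel

theorem rot7_3r : band (Rule.ok (2 * 7) EX RL ⟨7 :: [2, 7, 2], [], 10, true⟩) (lall (memL L) [2, 7, 2]) = true := by decide +kernel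

theorem rot7_4 : T.rot 7 [3, 7, 3] (sel (ones 49980) ip7 4) = true := by decide +kernel

theorem rot7_4r : band (Rule.ok (2 * 7) EX RL ⟨7 :: [3, 7, 3], [], 14, true⟩) (lall (memL L) [3, 7, 3]) = true := by decide +kernel

theorem rot7_5 : T.rot 7 [5, 7, 5] (sel (ones 49980) ip7 5) = true := by decide +kernel

theorem rot7_5r : band (Rule.ok (2 * 7) EX RL ⟨7 :: [5, 7, 5], [], 19, true⟩) (lall (memL L) [5, 7, 5]) = true := by decide +kernel

theorem rot7_6 : T.rot 7 [6, 7, 5, 6] (sel (ones 49980) ip7 6) = true := by decide +kernel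

theorem rot7_6r : band (Rule.ok (2 * 7) EX RL ⟨7 :: [6, 7, 5, 6], [10], 21, true⟩) (lall (memL L) [6, 7, 5, 6]) = true := by decide +kernel

theorem rot7_7 : T.rot 7 [5, 6, 7, 6] (sel (ones 49980) ip7 7) = true := by decide +kernel

theorem rot7_7r : band (Rule.ok (2 * 7) EX RL ⟨7 :: [5, 6, 7, 6], [8, 12], 21, true⟩) (lall (memL L) [5, 6, 7, 6]) = true := by decide +kernel

theorem rot7_8 : T.rot 7 [6, 7, 6, 5] (sel (ones 49980) ip7 8) = true := by decide +kernel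

theorem rot7_8r : band (Rule.ok (2 * 7) EX RL ⟨7 :: [6, 7, 6, 5], [8], 21, false⟩) (lall (memL L) [6, 7, 6, 5]) = true := by decide +kernel

theorem rot7_9 : T.rot 7 [6, 5, 7, 6] (sel (ones 49980) ip7 9) = true := by decide +kernel

theorem rot7_9r : band (Rule.ok (2 * 7) EX RL ⟨7 :: [6, 5, 7, 6], [10, 12], 21, false⟩) (lall (memL L) [6, 5, 7, 6]) = true := by decide +kernel

theorem rot7_10 : T.rot 7 [4, 7, 4, 7, 4] (sel (ones 49980) ip7 10) = true := by decide +kernel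

theorem rot7_10r : band (Rule.ok (2 * 7) EX RL ⟨7 :: [4, 7, 4, 7, 4], [], 17, true⟩) (lall (memL L) [4, 7, 4, 7, 4]) = true := by decide +kernel

theorem rot7_11 : T.rot 7 [6, 7, 6, 7, 6, 7, 6] (sel (ones 49980) ip7 11) = true := by decide +kernel

theorem rot7_11r : band (Rule.ok (2 * 7) EX RL ⟨7 :: [6, 7, 6, 7, 6, 7, 6], [], 20, true⟩) (lall (memL L) [6, 7, 6, 7, 6, 7, 6]) = true := by decide +kernel

theorem rot7_12 : T.rot 7 [6, 4, 3, 7, 6, 4, 3, 7, 6, 4, 3, 7, 6, 4, 3] (sel (ones 49980) ip7 12) = true := by decide +kernel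

theorem rot7_12r : band (Rule.ok (2 * 7) EX RL ⟨7 :: [6, 4, 3, 7, 6, 4, 3, 7, 6, 4, 3, 7, 6, 4, 3], [], 24, true⟩) (lall (memL L) [6, 4, 3, 7, 6, 4, 3, 7, 6, 4, 3, 7, 6, 4, 3]) = true := by decide +kernel

theorem rot7_13 : T.rot 7 [3, 4, 6, 7, 3, 4, 6, 7, 3, 4, 6, 7, 3, 4, 6] (sel (ones 49980) ip7 13) = true := by decide +kernel

theorem rot7_13r : band (Rule.ok (2 * 7) EX RL ⟨7 :: [3, 4, 6, 7, 3, 4, 6, 7, 3, 4, 6, 7, 3, 4, 6], [12], 24, false⟩) (lall (memL L) [3, 4, 6, 7, 3, 4, 6, 7, 3, 4, 6, 7, 3, 4, 6]) = true := by decide +kernel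

theorem cov7 : T.cover 7 [(sel (ones 49980) ip7 1), (sel (ones 49980) ip7 2), (sel (ones 49980) ip7 3), (sel (ones 49980) ip7 4), (sel (ones 49980) ip7 5), (sel (ones 49980) ip7 6), (sel (ones 49980) ip7 7), (sel (ones 49980) ip7 8), (sel (ones 49980) ip7 9), (sel (ones 49980) ip7 10), (sel (ones 49980) ip7 11), (sel (ones 49980) ip7 12), (sel (ones 49980) ip7 13), 1] = true := by decide +kernel

theorem tl7 : T.treeLt 16 7 = true := by decide +kernel

theorem cov8 : T.cover 8 [] = true := by decide +kernel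

theorem tl8 : Nat.beq (T.let 8).tt 0 = true := by decide +kernel

theorem cov9 : T.cover 9 [] = true := by decide +kernel

theorem tl9 : Nat.beq (T.let 9).tt 0 = true := by decide +kernel

end Cfsg.Agent.Spor.He49980
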